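import Groth.Prelude.Def_AnPts
import Mathlib.AlgebraicGeometry.Morphisms.FiniteType
import Mathlib.AlgebraicGeometry.Morphisms.Proper
import Mathlib.AlgebraicGeometry.Morphisms.QuasiCompact
import Mathlib.Topology.SeparatedMap
import Mathlib.Topology.Maps.Proper.Basic

set_option autoImplicit false
open CategoryTheory AlgebraicGeometry Topology TopologicalSpace

namespace Groth.Agent.An.H878.Point

/-- The space of complex points of the base `Spec ℂ` is a single point. -/
instance subsingleton_pts : Subsingleton (An.Pts An.SC) :=
  ⟨fun x y => Subtype.ext (by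
    have e : (An.SC ↘ An.SC) = 𝟙 An.SC := rfl
    have hx : x.1 ≫ 𝟙 An.SC = 𝟙 An.SC := x.2
    have hy : y.1 ≫ 𝟙 An.SC = 𝟙 An.SC := y.2
    rw [Category.comp_id] at hx hy
    exact hx.trans hy.symm)⟩

/-- The unique complex point of `Spec ℂ`. -/
noncomputable def point : An.Pts An.SC := ⟨𝟙 An.SC, by
  have e : (An.SC ↘ An.SC) = 𝟙 An.SC := rfl
  rw [e, Category.comp_id]⟩

/-- A continuous map to a one-point space is proper iff its source is compact. -/
theorem isProperMap_iff_of_subsingleton {S T : Type*} [TopologicalSpace S] [TopologicalSpace T]
    [Subsingleton T] (f : S → T) (hT : Nonempty T) : IsProperMap f ↔ CompactSpace S := by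
  constructor
  · intro h
    obtain ⟨t⟩ := hT
    have := h.isCompact_preimage (K := {t}) isCompact_singleton
    have e : f ⁻¹' {t} = Set.univ := by
      ext s
      simp only [Set.mem_preimage, Set.mem_singleton_iff, Set.mem_univ, iff_true]
      exact Subsingleton.elim _ _
    rw [e] at this
    exact ⟨this⟩
  · intro h
    have : T2Space T := ⟨fun x y hxy => absurd (Subsingleton.elim x y) hxy⟩
    have hc : Continuous f := by
      have : f = fun _ => hT.some := by
        funext s
        exact Subsingleton.elim _ _
      rw [this]
      exact continuous_const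
    exact hc.isProperMap

/-- A map to a one-point space is separated iff its source is Hausdorff. -/
theorem isSeparatedMap_iff_of_subsingleton {S T : Type*} [TopologicalSpace S]
    [Subsingleton T] (f : S → T) : IsSeparatedMap f ↔ T2Space S := by
  constructor
  · intro h
    exact ⟨fun x y hxy => h x y (Subsingleton.elim _ _) hxy⟩
  · intro h x y _ hxy
    exact t2_separation hxy

end Groth.Agent.An.H878.Point
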