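import Groth.Agent.An.H863.PtsPullback
import Groth.Agent.An.H867.Closure
import Groth.Agent.An.H871.Surj
import Groth.Agent.Ega43.UnivClosedAffine
import Mathlib.Topology.Maps.Proper.Basic

/-!
# A quasi-compact morphism which is universally closed on complex points is universally closed
-/

set_option autoImplicit false
open CategoryTheory AlgebraicGeometry Topology TopologicalSpace Opposite Filter

noncomputable section

namespace Groth.Agent.An.H878.UnivClosed

open Groth.Agent.An.H863.PtsPullback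

variable {X Y S P : Scheme.{0}} [X.Over An.SC] [Y.Over An.SC] [S.Over An.SC] [P.Over An.SC]

/-- Base change of a proper map on complex points: scheme-theoretic fibre products. -/
theorem isProperMap_map_of_isPullback (fst : P ⟶ X) (snd : P ⟶ Y) (f : X ⟶ S) (g : Y ⟶ S)
    [fst.IsOver An.SC] [snd.IsOver An.SC] [f.IsOver An.SC] [g.IsOver An.SC]
    (h : IsPullback fst snd f g) (hf : IsProperMap (An.Pts.map f)) :
    IsProperMap (An.Pts.map snd) := by
  rw [isProperMap_iff_ultrafilter]
  refine ⟨An.Pts.continuous_map snd, fun 𝒰 y hy => ?_⟩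
  -- the image ultrafilter on X converges over f
  have h1 : Tendsto (An.Pts.map f) (𝒰.map (An.Pts.map fst) : Ultrafilter (An.Pts X))
      (𝓝 (An.Pts.map g y)) := by
    have h2 : Tendsto (An.Pts.map g ∘ An.Pts.map snd) 𝒰 (𝓝 (An.Pts.map g y)) :=
      ((An.Pts.continuous_map g).tendsto y).comp hy
    have h3 : (An.Pts.map g ∘ An.Pts.map snd) = (An.Pts.map f ∘ An.Pts.map fst) := by
      funext z
      apply Subtype.ext
      change (z.1 ≫ snd) ≫ g = (z.1 ≫ fst) ≫ f
      rw [Category.assoc, Category.assoc, h.w]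
    rw [h3] at h2
    exact h2
  obtain ⟨x, hx, hle⟩ := hf.ultrafilter_le_nhds_of_tendsto h1
  -- the canonical isomorphism with the chosen pullback
  have hi1 : (h.isoPullback.hom).IsOver An.SC := ⟨by
    change h.isoPullback.hom ≫ (Limits.pullback.fst f g ≫ X ↘ An.SC) = _
    rw [← Category.assoc, h.isoPullback_hom_fst]
    exact comp_over fst An.SC⟩
  have hi2 : (h.isoPullback.inv).IsOver An.SC := ⟨by
    change _ = (Limits.pullback.fst f g ≫ X ↘ An.SC)
    rw [Iso.inv_comp_eq]
    exact (comp_over h.isoPullback.hom An.SC).symm⟩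
  let q₀ : {q : An.Pts X × An.Pts Y // An.Pts.map f q.1 = An.Pts.map g q.2} := ⟨(x, y), hx⟩
  let r : An.Pts P → {q : An.Pts X × An.Pts Y // An.Pts.map f q.1 = An.Pts.map g q.2} := fun z =>
    ⟨(An.Pts.map fst z, An.Pts.map snd z), by
      apply Subtype.ext
      change (z.1 ≫ fst) ≫ f = (z.1 ≫ snd) ≫ g
      rw [Category.assoc, Category.assoc, h.w]⟩
  let s : {q : An.Pts X × An.Pts Y // An.Pts.map f q.1 = An.Pts.map g q.2} → An.Pts P :=
    fun q => An.Pts.map h.isoPullback.inv (lift f g q)
  have hs : Continuous s := (An.Pts.continuous_map _).comp (continuous_lift f g)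
  have hsr : s ∘ r = id := by
    funext z
    apply Subtype.ext
    change (Limits.pullback.lift (z.1 ≫ fst) (z.1 ≫ snd) _) ≫ h.isoPullback.inv = z.1
    rw [Iso.comp_inv_eq]
    apply Limits.pullback.hom_ext
    · rw [Limits.pullback.lift_fst, Category.assoc, h.isoPullback_hom_fst]
    · rw [Limits.pullback.lift_snd, Category.assoc, h.isoPullback_hom_snd]
  refine ⟨s q₀, ?_, ?_⟩
  · apply Subtype.ext
    change ((Limits.pullback.lift x.1 y.1 _) ≫ h.isoPullback.inv) ≫ snd = y.1
    rw [Category.assoc, h.isoPullback_inv_snd, Limits.pullback.lift_snd]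
  · have h4 : Tendsto r 𝒰 (𝓝 q₀) := by
      rw [tendsto_subtype_rng]
      have h5 : Tendsto (An.Pts.map fst) 𝒰 (𝓝 x) := hle
      exact h5.prodMk_nhds hy
    have h6 : Tendsto (s ∘ r) 𝒰 (𝓝 (s q₀)) := (hs.tendsto q₀).comp h4
    rw [hsr] at h6
    exact h6

/-- Open subsets of locally noetherian schemes are locally constructible. -/
theorem isLocallyConstructible_of_isOpen {T : Scheme.{0}} [IsLocallyNoetherian T] {U : Set T}
    (hU : IsOpen U) : IsLocallyConstructible U := by
  intro x
  obtain ⟨V, hV, hxV, -⟩ := exists_isAffineOpen_mem_and_subset (x := x) (U := ⊤) trivial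
  refine ⟨V, V.isOpen.mem_nhds hxV, V.isOpen, ?_⟩
  have : IsNoetherianRing Γ(T, V) := IsLocallyNoetherian.component_noetherian ⟨V, hV⟩
  have h1 : NoetherianSpace V := noetherianSpace_of_isAffineOpen V hV
  have h2 : IsOpen ((Subtype.val : ↥(V : Set T) → T) ⁻¹' U) := hU.preimage continuous_subtype_val
  have h3 : IsRetrocompact ((Subtype.val : ↥(V : Set T) → T) ⁻¹' U) :=
    fun W hW _ => @NoetherianSpace.isCompact _ _ h1 _
  exact h3.isConstructible h2

/-- Closed subsets of locally noetherian schemes are locally constructible. -/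
theorem isLocallyConstructible_of_isClosed {T : Scheme.{0}} [IsLocallyNoetherian T] {Z : Set T}
    (hZ : IsClosed Z) : IsLocallyConstructible Z := by
  intro x
  obtain ⟨V, hV, hVo, hVc⟩ := isLocallyConstructible_of_isOpen hZ.isOpen_compl x
  refine ⟨V, hV, hVo, ?_⟩
  have := hVc.compl
  rwa [← Set.preimage_compl, compl_compl] at this

variable (f : X ⟶ Y) [f.IsOver An.SC] [LocallyOfFiniteType (X ↘ An.SC)]
  [LocallyOfFiniteType (Y ↘ An.SC)]

/-- A quasi-compact morphism which is closed on complex points is closed. -/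
theorem isClosedMap_of_isClosedMap_map [QuasiCompact f] (h : IsClosedMap (An.Pts.map f)) :
    IsClosedMap f := by
  intro Z hZ
  have hX := Groth.Agent.An.H871.Surj.isLocallyNoetherian X
  have hY := Groth.Agent.An.H871.Surj.isLocallyNoetherian Y
  have hZc : IsLocallyConstructible Z := isLocallyConstructible_of_isClosed hZ
  have h1 := Groth.Agent.An.H871.Surj.preimage_image f hZc
  have h2 : IsClosed (An.Pts.pt ⁻¹' (f '' Z) : Set (An.Pts Y)) := by
    rw [h1]
    exact h _ (hZ.preimage An.Pts.continuous_pt)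
  have hT := Groth.Agent.An.H871.Surj.isLocallyConstructible_image f hZc
  have h3 := Groth.Agent.An.H867.Closure.closure_preimage_pt hT
  rw [h2.closure_eq] at h3
  have hcl : IsLocallyConstructible (closure (f '' Z)) :=
    isLocallyConstructible_of_isClosed isClosed_closure
  have h4 := (Groth.Agent.An.H871.Basic.eq_iff_of_isLocallyConstructible hT hcl).2 h3
  rw [h4]
  exact isClosed_closure

/-- A quasi-compact morphism which induces a (universally closed) proper map on complex points is
universally closed. -/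
theorem universallyClosed_of_isProperMap [QuasiCompact f] (h : IsProperMap (An.Pts.map f)) :
    UniversallyClosed f := by
  refine Groth.Agent.Ega43.UnivClosedAffine.universallyClosed_of_isClosedMap_affineSpace f ?_
  intro n _
  let iX : (𝔸(n; X)).Over An.SC := ⟨(𝔸(n; X) ↘ X) ≫ X ↘ An.SC⟩
  let iY : (𝔸(n; Y)).Over An.SC := ⟨(𝔸(n; Y) ↘ Y) ≫ Y ↘ An.SC⟩
  have eX : (𝔸(n; X) ↘ An.SC) = (𝔸(n; X) ↘ X) ≫ X ↘ An.SC := rfl
  have eY : (𝔸(n; Y) ↘ An.SC) = (𝔸(n; Y) ↘ Y) ≫ Y ↘ An.SC := rfl
  have h1 : (𝔸(n; X) ↘ X).IsOver An.SC := ⟨rfl⟩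
  have h2 : (𝔸(n; Y) ↘ Y).IsOver An.SC := ⟨rfl⟩
  have h3 : (AffineSpace.map n f).IsOver An.SC := ⟨by
    rw [eX, eY, ← Category.assoc, AffineSpace.map_over, Category.assoc, comp_over f An.SC]⟩
  have h4 : LocallyOfFiniteType (𝔸(n; X) ↘ An.SC) := by rw [eX]; infer_instance
  have h5 : LocallyOfFiniteType (𝔸(n; Y) ↘ An.SC) := by rw [eY]; infer_instance
  have hp := (AffineSpace.isPullback_map (n := n) f).flip
  have h6 : QuasiCompact (AffineSpace.map n f) :=
    MorphismProperty.of_isPullback (P := @QuasiCompact) hp inferInstance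
  have h7 := isProperMap_map_of_isPullback _ _ _ _ hp h
  exact isClosedMap_of_isClosedMap_map _ h7.isClosedMap

end Groth.Agent.An.H878.UnivClosed
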